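import Mathlib
import Cfsg.Agent.Classical.QuadBasis
import Cfsg.Agent.Classical.QuadMat
import Cfsg.Agent.Classical.QuadOrder

/-!
Sylow 2-subgroups of the full orthogonal group of plus type over the field with two elements: invariant singular
subspaces of dimension m - 1, and two Sylow 2-subgroups never meet trivially.
-/

set_option autoImplicit false
set_option linter.unusedSectionVars false

namespace Cfsg.Agent.OrthTwoSylow

open Module QuadraticMap
open Cfsg.Agent.Classical

variable {F V : Type*} [Field F] [Finite F] [AddCommGroup V] [Module F V] [FiniteDimensional F V]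
  {Q : QuadraticForm F V}

/-- Totally singular. -/
def TSing (Q : QuadraticForm F V) (U : Submodule F V) : Prop := ∀ u ∈ U, Q u = 0

/-- The perpendicular subspace. -/
noncomputable def perp (Q : QuadraticForm F V) (U : Submodule F V) : Submodule F V :=
  LinearMap.BilinForm.orthogonal (polarBilin Q) U

theorem mem_perp {U : Submodule F V} {x : V} : x ∈ perp Q U ↔ ∀ u ∈ U, polar Q u x = 0 := by
  rw [perp, LinearMap.BilinForm.mem_orthogonal_iff]
  rfl

theorem TSing.polar_eq {U : Submodule F V} (h : TSing Q U) {x y : V} (hx : x ∈ U) (hy : y ∈ U) :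
    polar Q x y = 0 := by
  rw [polar, h _ (U.add_mem hx hy), h _ hx, h _ hy]; ring

theorem TSing.le_perp {U : Submodule F V} (h : TSing Q U) : U ≤ perp Q U := fun _ hx =>
  mem_perp.2 fun _ hu => h.polar_eq hu hx

theorem finrank_perp (hQ : (polarBilin Q).Nondegenerate) (U : Submodule F V) :
    finrank F (perp Q U) = finrank F V - finrank F U :=
  LinearMap.BilinForm.finrank_orthogonal hQ U

section two

variable (hF : Nat.card F = 2)
include hF

theorem cases_two (x : F) : x = 0 ∨ x = 1 := by
  by_contra h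
  push Not at h
  haveI : Fintype F := Fintype.ofFinite _
  have h3 : 3 ≤ Fintype.card F := by
    classical
    have := Finset.card_le_univ ({0, 1, x} : Finset F)
    rwa [Finset.card_eq_three.2 ⟨0, 1, x, zero_ne_one, h.1.symm, h.2.symm, rfl⟩] at this
  rw [← Nat.card_eq_fintype_card, hF] at h3
  omega

theorem charP_two : CharP F 2 := by
  refine CharTwo.of_one_ne_zero_of_two_eq_zero one_ne_zero ?_
  haveI : Fintype F := Fintype.ofFinite _
  have h : ((Fintype.card F : ℕ) : F) = 0 := Nat.cast_card_eq_zero F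
  rw [← Nat.card_eq_fintype_card, hF] at h
  exact_mod_cast h

/-- A quadratic form in at least three variables has an even number of zeros. -/
theorem even_zeros {W : Type*} [AddCommGroup W] [Module F W] [Finite W] [FiniteDimensional F W]
    (R : QuadraticForm F W) (hW : 3 ≤ finrank F W) : Even (Nat.card {w : W // R w = 0}) := by
  classical
  haveI := charP_two hF
  haveI : Fintype W := Fintype.ofFinite _
  haveI : Fintype F := Fintype.ofFinite _
  let b := Module.finBasis F W
  set n := finrank F W
  have hexp : ∀ c : Fin n → F, R (∑ i, c i • b i) = ∑ i, ∑ j, c i * c j * R.toBilin b (b i) (b j) := by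
    intro c
    conv_lhs => rw [← R.toQuadraticMap_toBilin b, LinearMap.BilinMap.toQuadraticMap_apply]
    simp only [map_sum, map_smul, LinearMap.sum_apply, LinearMap.smul_apply, smul_eq_mul, Finset.mul_sum]
    rw [Finset.sum_comm]
    exact Finset.sum_congr rfl fun i _ => Finset.sum_congr rfl fun j _ => by ring
  have hmono : ∀ i j : Fin n, ∑ c : Fin n → F, c i * c j = 0 := by
    intro i j
    obtain ⟨l, hl⟩ : ∃ l : Fin n, l ∉ ({i, j} : Finset (Fin n)) := by
      by_contra hcon
      push Not at hcon
      have := Finset.card_le_card (s := (Finset.univ : Finset (Fin n))) (t := {i, j}) fun l _ => hcon l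
      rw [Finset.card_univ, Fintype.card_fin] at this
      have h2 : ({i, j} : Finset (Fin n)).card ≤ 2 := Finset.card_le_two
      omega
    simp only [Finset.mem_insert, Finset.mem_singleton, not_or] at hl
    refine Finset.sum_involution (fun c _ => Function.update c l (c l + 1)) ?_ ?_ (fun _ _ => Finset.mem_univ _) ?_
    · intro c _
      rw [Function.update_of_ne (Ne.symm hl.1), Function.update_of_ne (Ne.symm hl.2)]
      exact CharTwo.add_self_eq_zero _
    · intro c _ _ hc
      have := congrFun hc l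
      rw [Function.update_self, add_eq_left] at this
      exact one_ne_zero this
    · intro c _
      show Function.update (Function.update c l (c l + 1)) l (Function.update c l (c l + 1) l + 1) = c
      rw [Function.update_idem, Function.update_self, add_assoc, CharTwo.add_self_eq_zero (1 : F), add_zero,
        Function.update_eq_self]
  have hsum : ∑ w : W, R w = 0 := by
    rw [← Equiv.sum_comp b.equivFun.symm.toEquiv]
    simp only [LinearEquiv.coe_toEquiv, Basis.equivFun_symm_apply, hexp]
    rw [Finset.sum_comm]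
    refine Finset.sum_eq_zero fun i _ => ?_
    rw [Finset.sum_comm]
    refine Finset.sum_eq_zero fun j _ => ?_
    rw [← Finset.sum_mul, hmono, zero_mul]
  have hone : ∀ w : W, R w ≠ 0 → R w = 1 := fun w hw => (cases_two hF _).resolve_left hw
  rw [← Finset.sum_filter_ne_zero, Finset.sum_congr rfl (fun w hw => hone w (Finset.mem_filter.1 hw).2),
    Finset.sum_const, nsmul_one, CharP.cast_eq_zero_iff F 2] at hsum
  have htot : Even (Fintype.card W) := by
    rw [← Nat.card_eq_fintype_card, Module.natCard_eq_pow_finrank (K := F), hF]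
    exact (Nat.even_pow).2 ⟨even_two, by omega⟩
  rw [Nat.card_eq_fintype_card, Fintype.card_subtype]
  have hsplit := Finset.card_filter_add_card_filter_not (s := (Finset.univ : Finset W)) (fun w => R w = 0)
  rw [Finset.card_univ] at hsplit
  exact (Nat.even_add.1 (hsplit ▸ htot)).2 (even_iff_two_dvd.2 hsum)

variable [Finite V] {G : Type*} [Group G] (ρ : G →* (V ≃ₗ[F] V)) (hρ : ∀ g, ρ g ∈ Quad.oG Q)
  (hinj : Function.Injective ρ) (hQ : (polarBilin Q).Nondegenerate) {m : ℕ} (hV : finrank F V = 2 * m)
include hρ hQ hV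

/-- A 2-group of isometries fixes a totally singular subspace of every dimension below m. -/
theorem exists_invariant (H : Subgroup G) (hH : IsPGroup 2 H) :
    ∀ j, j < m → ∃ U : Submodule F V, TSing Q U ∧ finrank F U = j ∧ ∀ h ∈ H, U.map (ρ h).toLinearMap = U := by
  classical
  intro j
  induction j with
  | zero =>
    exact fun _ => ⟨⊥, fun u hu => by rw [(Submodule.mem_bot F).1 hu, map_zero], finrank_bot F V, fun h _ =>
      Submodule.map_bot _⟩
  | succ j ih =>
    intro hj
    obtain ⟨U, hU, hUd, hUH⟩ := ih (by omega)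
    let α := {U' : Submodule F V // U ≤ U' ∧ TSing Q U' ∧ finrank F U' = j + 1}
    letI : MulAction H α :=
      { smul := fun h U' => ⟨U'.1.map (ρ h.1).toLinearMap, (hUH h.1 h.2).symm.le.trans (Submodule.map_mono U'.2.1),
          (by
            rintro _ ⟨u, hu, rfl⟩
            rw [LinearEquiv.coe_coe, hρ h.1, U'.2.2.1 u hu]),
          by rw [LinearEquiv.finrank_map_eq]; exact U'.2.2.2⟩
        one_smul := fun U' => Subtype.ext (by
          show U'.1.map (ρ (1 : H).1).toLinearMap = U'.1
          rw [OneMemClass.coe_one, map_one]; exact Submodule.map_id _)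
        mul_smul := fun a b U' => Subtype.ext (by
          show U'.1.map (ρ (a * b : H).1).toLinearMap =
            (U'.1.map (ρ b.1).toLinearMap).map (ρ a.1).toLinearMap
          rw [← Submodule.map_comp, Subgroup.coe_mul, map_mul]; rfl) }
    obtain ⟨X, hX⟩ := Submodule.exists_isCompl (U.comap (perp Q U).subtype)
    have hXd : finrank F X = 2 * m - 2 * j := by
      have h := Submodule.finrank_add_eq_of_isCompl hX
      rw [(Submodule.comapSubtypeEquivOfLe hU.le_perp).finrank_eq, hUd, finrank_perp hQ, hV, hUd] at h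
      omega
    let R : QuadraticForm F X := Q.comp ((perp Q U).subtype.comp X.subtype)
    have hR : ∀ w : X, R w = Q ((w.1 : V)) := fun w => rfl
    have hUX : ∀ w : X, ((w.1 : V)) ∈ U → w = 0 := fun w hw =>
      Subtype.ext ((Submodule.mem_bot F).1 (hX.disjoint.le_bot ⟨hw, w.2⟩))
    have hQu : ∀ u ∈ U, ∀ y ∈ perp Q U, Q (u + y) = Q y := fun u hu y hy => by
      rw [Quad.map_add', hU u hu, mem_perp.1 hy u hu]; ring
    let Φ : {w : X // R w = 0 ∧ w ≠ 0} → α := fun w =>
      ⟨U ⊔ Submodule.span F {((w.1.1 : V))}, le_sup_left, (by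
        intro x hx
        obtain ⟨u, hu, y, hy, rfl⟩ := Submodule.mem_sup.1 hx
        obtain ⟨c, rfl⟩ := Submodule.mem_span_singleton.1 hy
        rw [hQu u hu _ ((perp Q U).smul_mem c w.1.1.2), Quad.map_smul', ← hR, w.2.1, mul_zero]), (by
        have hne : ((w.1.1 : V)) ∉ U := fun h => w.2.2 (hUX _ h)
        have h := Submodule.finrank_sup_add_finrank_inf_eq U (Submodule.span F {((w.1.1 : V))})
        rw [finrank_span_singleton (fun h0 => hne (by rw [h0]; exact U.zero_mem)), hUd] at h
        have hdis : U ⊓ Submodule.span F {((w.1.1 : V))} = ⊥ :=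
          (Submodule.eq_bot_iff _).2 fun x ⟨hxU, hxw⟩ => by
            obtain ⟨c, rfl⟩ := Submodule.mem_span_singleton.1 hxw
            rcases cases_two hF c with rfl | rfl
            · exact zero_smul _ _
            · exact absurd (by simpa using hxU) hne
        rw [hdis, finrank_bot] at h
        omega)⟩
    have hΦ : Function.Bijective Φ := by
      constructor
      · intro w w' h
        have hm : ((w.1.1 : V)) ∈ U ⊔ Submodule.span F {((w'.1.1 : V))} := by
          rw [show U ⊔ Submodule.span F {((w'.1.1 : V))} = U ⊔ Submodule.span F {((w.1.1 : V))} from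
            (congrArg Subtype.val h).symm]
          exact Submodule.mem_sup_right (Submodule.mem_span_singleton_self _)
        obtain ⟨u, hu, y, hy, he⟩ := Submodule.mem_sup.1 hm
        obtain ⟨c, rfl⟩ := Submodule.mem_span_singleton.1 hy
        have hd : w.1 - c • w'.1 = 0 := hUX _ (by
          simp only [Submodule.coe_sub, Submodule.coe_smul]
          rw [← he, add_sub_cancel_right]; exact hu)
        rcases cases_two hF c with rfl | rfl
        · rw [zero_smul, sub_zero] at hd
          exact absurd hd w.2.2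
        · rw [one_smul, sub_eq_zero] at hd
          exact Subtype.ext hd
      · intro U'
        obtain ⟨x, hx, hxU⟩ : ∃ x ∈ U'.1, x ∉ U := by
          by_contra hcon
          push Not at hcon
          have := Submodule.finrank_mono (show U'.1 ≤ U from hcon)
          rw [U'.2.2.2, hUd] at this
          omega
        have hxp : x ∈ perp Q U := mem_perp.2 fun u hu => U'.2.2.1.polar_eq (U'.2.1 hu) hx
        obtain ⟨a, ha, w, hw, he⟩ :=
          Submodule.mem_sup.1 (show (⟨x, hxp⟩ : perp Q U) ∈ U.comap (perp Q U).subtype ⊔ X by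
            rw [hX.sup_eq_top]; trivial)
        have he' : (a.1 : V) + (w.1 : V) = x := congrArg Subtype.val he
        have hw0 : (⟨w, hw⟩ : X) ≠ 0 := fun h0 => hxU (by
          have : (w.1 : V) = 0 := congrArg (fun z : X => ((z.1 : V))) h0
          rw [← he', this, add_zero]; exact ha)
        have hQw : R ⟨w, hw⟩ = 0 := by
          rw [hR, ← hQu a.1 ha w.1 w.2, he']; exact U'.2.2.1 x hx
        refine ⟨⟨⟨w, hw⟩, hQw, hw0⟩, Subtype.ext (Submodule.eq_of_le_of_finrank_eq ?_ ?_)⟩
        · refine sup_le U'.2.1 ((Submodule.span_singleton_le_iff_mem _ _).2 ?_)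
          show (w.1 : V) ∈ U'.1
          rw [show (w.1 : V) = x - a.1 from eq_sub_of_add_eq' he']
          exact U'.1.sub_mem hx (U'.2.1 ha)
        · exact (Φ ⟨⟨w, hw⟩, hQw, hw0⟩).2.2.2.trans U'.2.2.2.symm
    have hodd : ¬ 2 ∣ Nat.card α := by
      rw [← Nat.card_eq_of_bijective Φ hΦ]
      have he := even_zeros hF R (by omega)
      have hsucc : Nat.card {w : X // R w = 0} = Nat.card {w : X // R w = 0 ∧ w ≠ 0} + 1 := by
        haveI : Fintype X := Fintype.ofFinite _
        rw [Nat.card_eq_fintype_card, Nat.card_eq_fintype_card, Fintype.card_subtype, Fintype.card_subtype,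
          ← Finset.card_erase_add_one (s := Finset.univ.filter fun w : X => R w = 0) (a := 0) (by simp)]
        congr 2
        ext w
        simp [and_comm]
      rw [hsucc, Nat.even_add_one, even_iff_two_dvd] at he
      exact he
    haveI : Fact (Nat.Prime 2) := ⟨Nat.prime_two⟩
    obtain ⟨U', hU'⟩ := hH.nonempty_fixed_point_of_prime_not_dvd_card α hodd
    exact ⟨U'.1, U'.2.2.1, U'.2.2.2, fun h hh => congrArg Subtype.val (hU' ⟨h, hh⟩)⟩

omit hρ hQ hV in
/-- Pointwise stabiliser. -/
def pfix (U : Submodule F V) : Subgroup G where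
  carrier := {g | ∀ u ∈ U, ρ g u = u}
  mul_mem' {a b} ha hb := fun u hu => by rw [map_mul, LinearEquiv.mul_apply, hb u hu, ha u hu]
  one_mem' := fun u _ => by rw [map_one]; rfl
  inv_mem' {a} ha := fun u hu => by
    conv_lhs => rw [← ha u hu, ← LinearEquiv.mul_apply, ← map_mul, inv_mul_cancel, map_one]
    rfl

include hinj in
theorem pfix_isPGroup (hex : ∃ W : Submodule F V, TSing Q W ∧ finrank F W = m) {U : Submodule F V}
    (hU : TSing Q U) (hUd : finrank F U + 1 = m) : IsPGroup 2 (pfix ρ U) := by
  classical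
  haveI := charP_two hF
  have hperp2 : finrank F (perp Q U) = finrank F U + 2 := by rw [finrank_perp hQ, hV]; omega
  obtain ⟨w₀, hw0p, hw0U, hQw0⟩ : ∃ w, w ∈ perp Q U ∧ w ∉ U ∧ Q w = 0 := by
    by_contra hcon
    push Not at hcon
    obtain ⟨W, hW, hWd⟩ := hex
    have h := Quad.finrank_eq_of_maximal hQ (W₁ := U) (W₂ := W) hU hW (fun W' hle hW' => ?_) (by omega)
    · omega
    · refine le_antisymm (fun x hx => ?_) hle
      by_contra hxU
      exact hcon x (mem_perp.2 fun u hu => TSing.polar_eq hW' (hle hu) hx) hxU (hW' x hx)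
  obtain ⟨t', ht'p, ht'⟩ : ∃ t, t ∈ perp Q U ∧ polar Q w₀ t = 1 := by
    by_contra hcon
    push Not at hcon
    have h0 : ∀ t ∈ perp Q U, polar Q w₀ t = 0 := fun t ht => (cases_two hF _).resolve_right (hcon t ht)
    have : w₀ ∈ perp Q (perp Q U) := mem_perp.2 fun t ht => by rw [polar_comm]; exact h0 t ht
    have hpp : U = perp Q (perp Q U) := Submodule.eq_of_le_of_finrank_eq
      (fun u hu => mem_perp.2 fun t ht => by rw [polar_comm]; exact mem_perp.1 ht u hu)
      (by rw [finrank_perp hQ, hperp2, hV]; omega)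
    exact hw0U (hpp ▸ this)
  set t := t' + Q t' • w₀ with ht_def
  have htp : t ∈ perp Q U := (perp Q U).add_mem ht'p ((perp Q U).smul_mem _ hw0p)
  have hwt : polar Q w₀ t = 1 := by
    rw [ht_def, polar_add_right, polar_smul_right, ht', Quad.polar_self', hQw0]; simp
  have hQt : Q t = 0 := by
    rw [ht_def, Quad.map_add_smul, polar_comm, ht', hQw0, mul_one, mul_zero, add_zero]
    exact CharTwo.add_self_eq_zero _
  have hUp : ∀ u ∈ U, ∀ y ∈ perp Q U, polar Q u y = 0 := fun u hu y hy => mem_perp.1 hy u hu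
  have hspan : ∀ y ∈ perp Q U, ∃ u ∈ U, ∃ a b : F, y = u + a • w₀ + b • t := by
    intro y hy
    refine ⟨y - polar Q y t • w₀ - polar Q y w₀ • t, ?_, polar Q y t, polar Q y w₀, by abel⟩
    set z := y - polar Q y t • w₀ - polar Q y w₀ • t with hz
    have hzp : z ∈ perp Q U := (perp Q U).sub_mem ((perp Q U).sub_mem hy ((perp Q U).smul_mem _ hw0p))
      ((perp Q U).smul_mem _ htp)
    have hzw : polar Q z w₀ = 0 := by
      rw [hz, polar_sub_left, polar_sub_left, polar_smul_left, polar_smul_left, Quad.polar_self', hQw0,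
        polar_comm Q t w₀, hwt]; simp
    have hzt : polar Q z t = 0 := by
      rw [hz, polar_sub_left, polar_sub_left, polar_smul_left, polar_smul_left, Quad.polar_self', hQt, hwt]; simp
    by_contra hzU
    have hle : U ⊔ Submodule.span F {z, w₀, t} ≤ perp Q U :=
      sup_le hU.le_perp (Submodule.span_le.2 (by
        intro x hx
        simp only [Set.mem_insert_iff, Set.mem_singleton_iff] at hx
        rcases hx with rfl | rfl | rfl <;> assumption))
    have hlt : U < U ⊔ Submodule.span F {z} := lt_of_le_of_ne le_sup_left fun h =>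
      hzU (h.symm ▸ Submodule.mem_sup_right (Submodule.mem_span_singleton_self z))
    have hlt2 : U ⊔ Submodule.span F {z} < U ⊔ Submodule.span F {z} ⊔ Submodule.span F {w₀} := by
      refine lt_of_le_of_ne le_sup_left fun h => ?_
      have hm : w₀ ∈ U ⊔ Submodule.span F {z} :=
        h.symm ▸ Submodule.mem_sup_right (Submodule.mem_span_singleton_self w₀)
      obtain ⟨u, hu, y', hy', he⟩ := Submodule.mem_sup.1 hm
      obtain ⟨c, rfl⟩ := Submodule.mem_span_singleton.1 hy'
      have h1 := hwt
      rw [← he, polar_add_left, polar_smul_left, hzt, hUp u hu t htp] at h1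
      simp at h1
    have hlt3 : U ⊔ Submodule.span F {z} ⊔ Submodule.span F {w₀} <
        U ⊔ Submodule.span F {z} ⊔ Submodule.span F {w₀} ⊔ Submodule.span F {t} := by
      refine lt_of_le_of_ne le_sup_left fun h => ?_
      have hm : t ∈ U ⊔ Submodule.span F {z} ⊔ Submodule.span F {w₀} :=
        h.symm ▸ Submodule.mem_sup_right (Submodule.mem_span_singleton_self t)
      obtain ⟨x, hx, y', hy', he⟩ := Submodule.mem_sup.1 hm
      obtain ⟨u, hu, z', hz', rfl⟩ := Submodule.mem_sup.1 hx
      obtain ⟨c, rfl⟩ := Submodule.mem_span_singleton.1 hy'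
      obtain ⟨d, rfl⟩ := Submodule.mem_span_singleton.1 hz'
      have h1 := hwt
      rw [← he, polar_add_right, polar_add_right, polar_smul_right, polar_smul_right, polar_comm Q w₀ z, hzw,
        Quad.polar_self', hQw0, polar_comm Q w₀ u, hUp u hu w₀ hw0p] at h1
      simp at h1
    have hle3 : U ⊔ Submodule.span F {z} ⊔ Submodule.span F {w₀} ⊔ Submodule.span F {t} ≤ perp Q U := by
      refine le_trans ?_ hle
      simp only [sup_le_iff, le_sup_left, true_and, Submodule.span_singleton_le_iff_mem]
      exact ⟨⟨Submodule.mem_sup_right (Submodule.subset_span (by simp)),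
        Submodule.mem_sup_right (Submodule.subset_span (by simp))⟩,
        Submodule.mem_sup_right (Submodule.subset_span (by simp))⟩
    have := Submodule.finrank_lt_finrank_of_lt hlt
    have := Submodule.finrank_lt_finrank_of_lt hlt2
    have := Submodule.finrank_lt_finrank_of_lt hlt3
    have := Submodule.finrank_mono hle3
    omega
  intro g
  refine ⟨3, ?_⟩
  have hg : ∀ u ∈ U, ρ g.1 u = u := g.2
  set e := ρ g.1 with he_def
  have hpe : ∀ x y, polar Q (e x) (e y) = polar Q x y := Quad.polar_eq_of_mem (hρ g.1)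
  have hdiff : ∀ x, e x - x ∈ perp Q U := fun x => mem_perp.2 fun u hu => by
    rw [polar_sub_right]
    conv_lhs => arg 1; rw [← hg u hu]
    rw [hpe, sub_self]
  have hemem : ∀ y ∈ perp Q U, e y ∈ perp Q U := fun y hy => by
    have := (perp Q U).add_mem (hdiff y) hy
    rwa [sub_add_cancel] at this
  have hsing : ∀ u ∈ U, ∀ a b : F, Q (u + a • w₀ + b • t) = a * b := fun u hu a b => by
    rw [Quad.map_add_two, hU u hu, hUp u hu w₀ hw0p, hUp u hu t htp, hQw0, hQt, hwt]; ring
  have hpol : ∀ u ∈ U, ∀ u' ∈ U, ∀ a b a' b' : F,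
      polar Q (u + a • w₀ + b • t) (u' + a' • w₀ + b' • t) = a * b' + b * a' := by
    intro u hu u' hu' a b a' b'
    simp only [polar_add_left, polar_add_right, polar_smul_left, polar_smul_right, Quad.polar_self', hQw0, hQt,
      hU.polar_eq hu hu', hUp u hu w₀ hw0p, hUp u hu t htp, polar_comm Q w₀ u', hUp u' hu' w₀ hw0p,
      polar_comm Q t u', hUp u' hu' t htp, hwt, polar_comm Q t w₀, smul_eq_mul]
    ring
  have hkey : e (e w₀) - w₀ ∈ U ∧ e (e t) - t ∈ U := by
    obtain ⟨u, hu, a, b, h1⟩ := hspan _ (hemem _ hw0p)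
    obtain ⟨u', hu', a', b', h2⟩ := hspan _ (hemem _ htp)
    have q1 : a * b = 0 := by rw [← hsing u hu a b, ← h1, hρ g.1, hQw0]
    have q2 : a' * b' = 0 := by rw [← hsing u' hu' a' b', ← h2, hρ g.1, hQt]
    have q3 : a * b' + b * a' = 1 := by rw [← hpol u hu u' hu', ← h1, ← h2, hpe, hwt]
    have e1 : e (e w₀) = u + a • e w₀ + b • e t := by
      conv_lhs => rw [h1, map_add, map_add, map_smul, map_smul, hg u hu]
    have e2 : e (e t) = u' + a' • e w₀ + b' • e t := by
      conv_lhs => rw [h2, map_add, map_add, map_smul, map_smul, hg u' hu']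
    rcases cases_two hF a with rfl | rfl <;> rcases cases_two hF b with rfl | rfl <;>
      rcases cases_two hF a' with rfl | rfl <;> rcases cases_two hF b' with rfl | rfl <;>
      simp at q1 q2 q3 <;>
      simp only [one_smul, zero_smul, add_zero, zero_add] at h1 h2 e1 e2
    · rw [e1, e2, h2, h1]
      constructor
      · rw [add_sub_assoc, add_sub_cancel_right]; exact U.add_mem hu hu'
      · rw [add_sub_assoc, add_sub_cancel_right]; exact U.add_mem hu' hu
    · rw [e1, e2, h1, h2]
      constructor
      · rw [add_sub_assoc, add_sub_cancel_right]; exact U.add_mem hu hu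
      · rw [add_sub_assoc, add_sub_cancel_right]; exact U.add_mem hu' hu'
  set h : Module.End F V := (e * e : V ≃ₗ[F] V).toLinearMap - 1 with hh_def
  have happ : ∀ x, h x = e (e x) - x := fun x => rfl
  have hU0 : ∀ u ∈ U, h u = 0 := fun u hu => by rw [happ, hg u hu, hg u hu, sub_self]
  have hP : ∀ y ∈ perp Q U, h y ∈ U := fun y hy => by
    obtain ⟨u, hu, a, b, rfl⟩ := hspan y hy
    rw [map_add, map_add, map_smul, map_smul, hU0 u hu, zero_add, happ, happ]
    exact U.add_mem (U.smul_mem _ hkey.1) (U.smul_mem _ hkey.2)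
  have hV' : ∀ x, h x ∈ perp Q U := fun x => by
    have := (perp Q U).add_mem (hdiff (e x)) (hdiff x)
    rwa [sub_add_sub_cancel] at this
  have h3 : h ^ (2 ^ 2) = 0 := by
    refine LinearMap.ext fun x => ?_
    show (h ^ (2 ^ 2)) x = 0
    rw [show (2 : ℕ) ^ 2 = 1 + 1 + 1 + 1 from rfl, pow_succ', pow_succ', pow_succ', pow_one]
    show h (h (h (h x))) = 0
    rw [hU0 (h (h x)) (hP _ (hV' x)), map_zero]
  rcases subsingleton_or_nontrivial V with hs | hnt
  · exact Subtype.ext (hinj (LinearEquiv.ext fun x => Subsingleton.elim _ _))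
  haveI : CharP (Module.End F V) 2 := charP_of_injective_algebraMap (algebraMap F (Module.End F V)).injective 2
  rw [hh_def, sub_pow_char_pow_of_commute 2 2 (Commute.one_right _), one_pow, sub_eq_zero] at h3
  refine Subtype.ext (hinj (LinearEquiv.ext fun x => ?_))
  rw [SubgroupClass.coe_pow, map_pow, OneMemClass.coe_one, map_one, ← he_def]
  have hx := LinearMap.congr_fun h3 x
  rw [show (2 : ℕ) ^ 3 = 2 * 2 ^ 2 from rfl, pow_mul, sq e]
  rw [Module.End.pow_apply] at hx
  rw [show ((e * e) ^ 2 ^ 2 : V ≃ₗ[F] V) x = (⇑(e * e : V ≃ₗ[F] V))^[2 ^ 2] x from by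
    rw [show (2 : ℕ) ^ 2 = 1 + 1 + 1 + 1 from rfl, pow_succ, pow_succ, pow_succ, pow_one]; rfl]
  exact hx

variable (hsurj : ∀ f ∈ Quad.oG Q, ∃ g, ρ g = f) (hex : ∃ W : Submodule F V, TSing Q W ∧ finrank F W = m)
include hinj hsurj hex

omit hsurj in
/-- The pointwise stabiliser of an invariant subspace of dimension m - 1 lies in the Sylow 2-subgroup. -/
theorem exists_pfix_le (hm : 1 ≤ m) (H : Sylow 2 G) :
    ∃ U : Submodule F V, TSing Q U ∧ finrank F U + 1 = m ∧ pfix ρ U ≤ (H : Subgroup G) := by
  obtain ⟨U, hU, hUd, hUH⟩ := exists_invariant hF ρ hρ hQ hV (H : Subgroup G) H.isPGroup' (m - 1) (by omega)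
  refine ⟨U, hU, by omega, ?_⟩
  have hP : IsPGroup 2 (pfix ρ U) := pfix_isPGroup hF ρ hρ hinj hQ hV hex hU (by omega)
  have hfix : ∀ h ∈ (H : Subgroup G), ∀ u ∈ U, ρ h u ∈ U := fun h hh u hu => by
    have h2 : ρ h u ∈ U.map (ρ h).toLinearMap := ⟨u, hu, rfl⟩
    rwa [hUH h hh] at h2
  have hn : (H : Subgroup G) ≤ Subgroup.normalizer (pfix ρ U : Set G) := by
    intro h hh
    rw [Subgroup.mem_normalizer_iff]
    refine fun g => ⟨fun hg u hu => ?_, fun hg u hu => ?_⟩
    · rw [map_mul, map_mul, LinearEquiv.mul_apply, LinearEquiv.mul_apply,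
        hg _ (hfix h⁻¹ (inv_mem hh) u hu), ← LinearEquiv.mul_apply, ← map_mul, mul_inv_cancel, map_one]
      rfl
    · have h2 := hg _ (hfix h hh u hu)
      rw [map_mul, map_mul, LinearEquiv.mul_apply, LinearEquiv.mul_apply, ← LinearEquiv.mul_apply (ρ h⁻¹),
        ← map_mul, inv_mul_cancel, map_one] at h2
      exact (ρ h).injective h2
  have hsup : IsPGroup 2 ((H : Subgroup G) ⊔ pfix ρ U : Subgroup G) := H.isPGroup'.to_sup_of_normal_right' hP hn
  exact le_sup_right.trans (H.is_maximal' hsup le_sup_left).le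

/-- Two Sylow 2-subgroups meet non-trivially. -/
theorem sylow_inf_ne_bot (hm : 2 ≤ m) (H K : Sylow 2 G) : (H : Subgroup G) ⊓ (K : Subgroup G) ≠ ⊥ := by
  classical
  obtain ⟨U, hU, hUd, hUH⟩ := exists_pfix_le hF ρ hρ hinj hQ hV hex (by omega) H
  obtain ⟨U', hU', hUd', hUK⟩ := exists_pfix_le hF ρ hρ hinj hQ hV hex (by omega) K
  suffices hfin : ∃ f ∈ Quad.oG Q, f ≠ 1 ∧ ∀ x ∈ U ⊔ U', f x = x by
    obtain ⟨f, hf, hf1, hfix⟩ := hfin
    obtain ⟨g, rfl⟩ := hsurj f hf
    intro hbot
    have hmem : g ∈ (H : Subgroup G) ⊓ (K : Subgroup G) :=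
      ⟨hUH fun u hu => hfix u (Submodule.mem_sup_left hu), hUK fun u hu => hfix u (Submodule.mem_sup_right hu)⟩
    rw [hbot, Subgroup.mem_bot] at hmem
    exact hf1 (by rw [hmem, map_one])
  set X := perp Q (U ⊔ U')
  have hXd : 2 ≤ finrank F X := by
    have := Submodule.finrank_add_le_finrank_add_finrank U U'
    rw [finrank_perp hQ, hV]
    omega
  have hort : ∀ x ∈ U ⊔ U', ∀ v ∈ X, polar Q x v = 0 := fun x hx v hv => mem_perp.1 hv x hx
  by_cases hns : ∃ v ∈ X, Q v ≠ 0
  · obtain ⟨v, hvX, hv⟩ := hns
    refine ⟨Quad.refl hv, Quad.refl_mem hv, fun h => ?_, fun x hx => Quad.refl_fix hv (hort x hx v hvX)⟩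
    obtain ⟨x, hx⟩ : ∃ x, polar Q x v ≠ 0 := by
      by_contra hcon
      push Not at hcon
      exact hv (by rw [Quad.eq_zero_of_polar hQ (x := v) fun y => by rw [polar_comm]; exact hcon y, map_zero])
    have h1 : Quad.refl hv x = x := by rw [h]; rfl
    rw [Quad.refl_apply, sub_eq_self, smul_eq_zero] at h1
    rcases h1 with h1 | h1
    · exact hx (by simpa [hv] using h1)
    · exact hv (by rw [h1, map_zero])
  · push Not at hns
    obtain ⟨a, haX, ha0⟩ := Submodule.exists_mem_ne_zero_of_ne_bot (p := X) (by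
      intro h; rw [h, finrank_bot] at hXd; omega)
    obtain ⟨b, hbX, hb⟩ : ∃ b ∈ X, b ∉ Submodule.span F {a} := by
      by_contra hcon
      push Not at hcon
      have := Submodule.finrank_mono (show X ≤ Submodule.span F {a} from hcon)
      rw [finrank_span_singleton ha0] at this
      omega
    have hQa : Q a = 0 := hns a haX
    have hab : polar Q a b = 0 := TSing.polar_eq (U := X) hns haX hbX
    refine ⟨Quad.siegel hQa hab, Quad.siegel_mem hQa hab, fun h => ?_, fun x hx =>
      Quad.siegel_fix hQa hab (hort x hx a haX) (hort x hx b hbX)⟩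
    obtain ⟨x, hx⟩ : ∃ x, polar Q x a ≠ 0 := by
      by_contra hcon
      push Not at hcon
      exact ha0 (Quad.eq_zero_of_polar hQ fun y => by rw [polar_comm]; exact hcon y)
    have h1 : Quad.siegel hQa hab x = x := by rw [h]; rfl
    rw [Quad.siegel_apply, hns b hbX, zero_mul, neg_zero, zero_smul, add_zero, add_assoc, add_eq_left] at h1
    refine hb (Submodule.mem_span_singleton.2 ⟨polar Q x b / polar Q x a, ?_⟩)
    have h2 : polar Q x b • a = polar Q x a • b := by
      rw [← sub_eq_zero, ← h1, neg_smul, sub_eq_add_neg]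
    rw [div_eq_inv_mul, mul_smul, h2, smul_smul, inv_mul_cancel₀ hx, one_smul]

end two

end Cfsg.Agent.OrthTwoSylow
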